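import Groth.Agent.S3034
import Groth.Agent.S4362
import Groth.Agent.Lib.AntiAffine.Basic
import Groth.Agent.Lib.GrpSchField.Field
import Mathlib

/-!
# Schematically dominant homomorphisms from algebraic groups to limits of algebraic groups
-/

universe u v

open CategoryTheory CategoryTheory.Limits MonoidalCategory CartesianMonoidalCategory MonObj AlgebraicGeometry

set_option backward.isDefEq.respectTransparency false

noncomputable section

namespace GrothLib.DomHom13

theorem isIso_of_factor {X Y Z : Scheme.{u}} (f : X ⟶ Y) (hf : f.ker = ⊥) (z : Z ⟶ Y) [IsClosedImmersion z]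
    (g : X ⟶ Z) (hg : g ≫ z = f) : IsIso z := by
  refine IsClosedImmersion.isIso_iff_ker_eq_bot.mpr (le_bot_iff.mp ?_)
  rw [← hf, ← hg]
  exact Scheme.Hom.le_ker_comp g z

variable {k : Type u} [Field k]

/-- Morphisms to a separated scheme agreeing after a schematically dominant morphism are equal. -/
theorem eq_of_dominant {A B D : Over (Spec (CommRingCat.of k))} (u : A ⟶ B) (hu : u.left.ker = ⊥)
    [IsSeparated D.hom] (f g : B ⟶ D) (h : u ≫ f = u ≫ g) : f = g := by
  haveI : D.left.IsSeparated := ⟨by
    rw [show terminal.from D.left = D.hom ≫ terminal.from _ from Subsingleton.elim _ _]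
    infer_instance⟩
  have h' : u.left ≫ f.left = u.left ≫ g.left := congrArg CommaMorphism.left h
  haveI : IsIso (equalizer.ι f.left g.left) :=
    isIso_of_factor u.left hu _ (equalizer.lift u.left h') (equalizer.lift_ι _ _)
  exact Over.OverMorphism.ext ((cancel_epi (equalizer.ι f.left g.left)).mp (equalizer.condition _ _))

variable {G G' : Over (Spec (CommRingCat.of k))} [GrpObj G] [GrpObj G']
  [LocallyOfFiniteType G.hom] [QuasiCompact G.hom]

/-- Descent along a faithfully flat quasi-compact homomorphism. -/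
theorem exists_desc {C D : Over (Spec (CommRingCat.of k))} [GrpObj C] [GrpObj D] (p : G ⟶ C) [IsMonHom p]
    [Flat p.left] [Surjective p.left] [QuasiCompact p.left] (t : G ⟶ D) [IsMonHom t]
    (h : ∀ (T : Over (Spec (CommRingCat.of k))) (x : T ⟶ G), x ≫ p = 1 → x ≫ t = 1) :
    ∃ s : C ⟶ D, p ≫ s = t := by
  have hkp : ∀ {T : Scheme.{u}} (a b : T ⟶ G.left), a ≫ p.left = b ≫ p.left → a ≫ t.left = b ≫ t.left := by
    intro T a b hab
    let T' : Over (Spec (CommRingCat.of k)) := Over.mk (a ≫ G.hom)
    let a' : T' ⟶ G := Over.homMk a rfl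
    let b' : T' ⟶ G := Over.homMk b (by
      change b ≫ G.hom = a ≫ G.hom
      rw [← Over.w p, ← Category.assoc, ← hab, Category.assoc])
    have hab' : a' ≫ p = b' ≫ p := Over.OverMorphism.ext hab
    have h1 := h T' (a'⁻¹ * b') (by rw [MonObj.mul_comp, GrpObj.inv_comp, hab', inv_mul_cancel])
    rw [MonObj.mul_comp, GrpObj.inv_comp, inv_mul_eq_one] at h1
    exact congrArg CommaMorphism.left h1
  let gE := EffectiveEpi.desc p.left t.left fun a b hab ↦ hkp a b hab
  have hfac : p.left ≫ gE = t.left := EffectiveEpi.fac _ _ _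
  refine ⟨Over.homMk gE ?_, Over.OverMorphism.ext ?_⟩
  · rw [← cancel_epi p.left, ← Category.assoc, hfac, Over.w, Over.w]
  · exact hfac

/-- A schematically dominant homomorphism from an algebraic group into a group which is separated by a directed
family of homomorphisms to algebraic groups is faithfully flat, and its target is algebraic. -/
theorem flat_surjective_of_dominant {J : Type v} [Nonempty J] (D : J → Over (Spec (CommRingCat.of k)))
    [∀ j, GrpObj (D j)] (hD : ∀ j, LocallyOfFiniteType (D j).hom)
    (π : ∀ j, G' ⟶ D j) (hπ : ∀ j, IsMonHom (π j))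
    (hdir : ∀ i j, ∃ l, ∀ (T : Over (Spec (CommRingCat.of k))) (x : T ⟶ G'),
      x ≫ π l = 1 → x ≫ π i = 1 ∧ x ≫ π j = 1)
    (hjoint : ∀ (T : Over (Spec (CommRingCat.of k))) (x y : T ⟶ G'), (∀ j, x ≫ π j = y ≫ π j) → x = y)
    (hlim : ∀ (C : Over (Spec (CommRingCat.of k))) (p : G ⟶ C), Flat p.left → Surjective p.left → QuasiCompact p.left →
      ∀ (u : G ⟶ G') (t : ∀ j, C ⟶ D j), (∀ j, p ≫ t j = u ≫ π j) → ∃ s : C ⟶ G', p ≫ s = u)
    (u : G ⟶ G') [IsMonHom u] (hu : u.left.ker = ⊥) :
    Flat u.left ∧ Surjective u.left ∧ LocallyOfFiniteType G'.hom ∧ QuasiCompact G'.hom := by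
  haveI : IsLocallyNoetherian G.left := LocallyOfFiniteType.isLocallyNoetherian G.hom
  haveI : CompactSpace G.left := QuasiCompact.compactSpace_of_compactSpace G.hom
  haveI : IsNoetherian G.left := ⟨⟩
  haveI hsep : ∀ j, IsSeparated (D j).hom := fun j => by
    haveI := hD j
    exact GrothLib.GrpSchField.isSeparated (D j)
  haveI : ∀ j, IsClosedImmersion η[D j].left := fun j => by
    have h : η[D j].left ≫ (D j).hom = 𝟙 _ := Over.w η[D j]
    exact isClosedImmersion_of_comp_eq_id (Y := Spec (CommRingCat.of k)) _ _ h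
  let ν : ∀ j, G.left.IdealSheafData := fun j => (pullback.fst (u ≫ π j).left η[D j].left).ker
  obtain ⟨_, ⟨j₀, rfl⟩, hmax⟩ :=
    (Groth.Agent.S4362.result G.left).wf.has_min (Set.range ν) (Set.range_nonempty _)
  haveI := fun j => hπ j
  -- points killed at the minimal stage are killed everywhere
  have hker : ∀ j (T : Over (Spec (CommRingCat.of k))) (x : T ⟶ G), x ≫ u ≫ π j₀ = 1 → x ≫ u ≫ π j = 1 := by
    intro j T x hx
    obtain ⟨l, hl⟩ := hdir j₀ j
    have hν : ∀ (i i' : J), (∀ (T : Over (Spec (CommRingCat.of k))) (x : T ⟶ G'), x ≫ π i = 1 → x ≫ π i' = 1) →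
        ν i' ≤ ν i := by
      intro i i' h
      let Z : Over (Spec (CommRingCat.of k)) := Over.mk (pullback.snd (u ≫ π i).left η[D i].left)
      let z : Z ⟶ G := Over.homMk (pullback.fst _ _) (by
        show _ = pullback.snd _ _
        rw [← Over.w (u ≫ π i), pullback.condition_assoc, show η[D i].left ≫ (D i).hom = 𝟙 _ from Over.w η[D i],
          Category.comp_id])
      have hz : z ≫ u ≫ π i = 1 := by
        rw [Hom.one_def]
        refine Over.OverMorphism.ext ?_
        show pullback.fst _ _ ≫ (u ≫ π i).left = (toUnit Z).left ≫ _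
        rw [pullback.condition, toUnit_left]
        rfl
      have hz' : z ≫ u ≫ π i' = 1 := by
        rw [← Category.assoc] at hz ⊢
        exact h _ _ hz
      rw [Hom.one_def] at hz'
      have e := congrArg CommaMorphism.left hz'
      exact le_of_eq_of_le rfl (show ν i' ≤ ν i from by
        have : pullback.lift z.left (toUnit Z).left e ≫ pullback.fst (u ≫ π i').left η[D i'].left =
          pullback.fst (u ≫ π i).left η[D i].left := pullback.lift_fst _ _ _
        show _ ≤ (pullback.fst (u ≫ π i).left η[D i].left).ker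
        rw [← this]
        exact Scheme.Hom.le_ker_comp _ _)
    have hle : ν j₀ ≤ ν l := hν l j₀ fun T y hy => (hl T y hy).1
    have heq : ν l = ν j₀ := ((le_iff_eq_or_lt.mp hle).resolve_right fun hlt => hmax _ ⟨l, rfl⟩ hlt).symm
    have hfac : ∃ g, g ≫ pullback.fst (u ≫ π l).left η[D l].left = pullback.fst (u ≫ π j₀).left η[D j₀].left :=
      ⟨IsClosedImmersion.lift _ _ heq.le, IsClosedImmersion.lift_fac _ _ _⟩
    obtain ⟨g, hg⟩ := hfac
    have hxl : x ≫ u ≫ π l = 1 := by
      rw [Hom.one_def] at hx ⊢
      refine Over.OverMorphism.ext ?_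
      let w := pullback.lift x.left (toUnit T).left (congrArg CommaMorphism.left hx)
      have hw : w ≫ pullback.fst (u ≫ π j₀).left η[D j₀].left = x.left := pullback.lift_fst _ _ _
      show x.left ≫ (u ≫ π l).left = (toUnit T).left ≫ η[D l].left
      rw [← hw, ← hg, Category.assoc, Category.assoc, pullback.condition, ← Category.assoc, ← Category.assoc]
      congr 1
      have h2 := congrArg (· ≫ (D l).hom) (pullback.condition (f := (u ≫ π l).left) (g := η[D l].left))
      simp only [Category.assoc, Over.w, show η[D l].left ≫ (D l).hom = 𝟙 _ from Over.w η[D l], Category.comp_id] at h2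
      rw [Category.assoc, ← h2, reassoc_of% hg, ← Category.assoc, hw, Over.w, toUnit_left]
    rw [← Category.assoc] at hxl ⊢
    exact (hl T _ hxl).2
  haveI := hD j₀
  haveI : QuasiCompact (u ≫ π j₀).left := inferInstance
  haveI : Flat G.hom := inferInstance
  obtain ⟨C, _, p, i, hp, hi, hpi, hpf, hps, hplfp, hii⟩ := Groth.Agent.S3034.result k G (D j₀) (u ≫ π j₀) inferInstance
  haveI := hp; haveI := hi; haveI := hpf; haveI := hps; haveI := hii; haveI := hplfp
  haveI : QuasiCompact p.left := by
    haveI : QuasiCompact (p.left ≫ i.left) := by rw [← Over.comp_left, hpi]; infer_instance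
    exact QuasiCompact.of_comp p.left i.left
  haveI : Epi p.left := inferInstance
  haveI : Epi p := Over.epi_of_epi_left _
  have hkill : ∀ j (T : Over (Spec (CommRingCat.of k))) (x : T ⟶ G), x ≫ p = 1 → x ≫ u ≫ π j = 1 := fun j T x hx =>
    hker j T x (by rw [← hpi, ← Category.assoc, hx, MonObj.one_comp])
  choose t ht using fun j => exists_desc p (u ≫ π j) (hkill j)
  obtain ⟨s, hs⟩ := hlim C p hpf hps inferInstance u t ht
  obtain ⟨r, hr⟩ : ∃ r : G' ⟶ C, r ≫ i = π j₀ := by
    have hZ : IsIso (pullback.fst (π j₀).left i.left) :=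
      isIso_of_factor u.left hu _ (pullback.lift u.left p.left (congrArg CommaMorphism.left hpi.symm))
        (pullback.lift_fst _ _ _)
    let r := inv (pullback.fst (π j₀).left i.left) ≫ pullback.snd _ _
    have hr : r ≫ i.left = (π j₀).left := by
      show (inv (pullback.fst (π j₀).left i.left) ≫ pullback.snd _ _) ≫ i.left = _
      rw [Category.assoc, IsIso.inv_comp_eq]
      exact pullback.condition.symm
    exact ⟨Over.homMk r (by rw [← Over.w i, reassoc_of% hr, Over.w]), Over.OverMorphism.ext hr⟩
  haveI : Mono i.left := inferInstance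
  haveI : Mono i := Over.mono_of_mono_left _
  have hur : u ≫ r = p := by rw [← cancel_mono i, Category.assoc, hr, hpi]
  have hsr : s ≫ r = 𝟙 _ := by rw [← cancel_epi p, reassoc_of% hs, hur, Category.comp_id]
  have hrs : r ≫ s = 𝟙 _ := hjoint _ _ _ fun j => eq_of_dominant u hu _ _ (by
    rw [Category.id_comp, ← Category.assoc u, ← Category.assoc u, hur, hs])
  haveI : IsIso s := ⟨r, hsr, hrs⟩
  haveI : IsIso s.left := inferInstanceAs (IsIso ((Over.forget _).map s))
  haveI : IsIso r := ⟨s, hrs, hsr⟩
  haveI : IsIso r.left := inferInstanceAs (IsIso ((Over.forget _).map r))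
  haveI : LocallyOfFiniteType C.hom := by rw [← Over.w i]; infer_instance
  refine ⟨by rw [← hs, Over.comp_left]; infer_instance, by rw [← hs, Over.comp_left]; infer_instance,
    by rw [← Over.w r]; infer_instance, ?_⟩
  haveI : CompactSpace G'.left :=
    Function.Surjective.compactSpace (f := u.left) u.left.continuous
      (by rw [← hs, Over.comp_left]; exact (p.left ≫ s.left).surjective)
  infer_instance
where
  toUnit_left {T : Over (Spec (CommRingCat.of k))} : (toUnit T).left = T.hom :=
    (Category.comp_id _).symm.trans (Over.w (toUnit T))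

end GrothLib.DomHom13
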